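import Groth.Agent.Surf.K816.CovTwo
import Groth.Agent.Surf.K816.Const
import Mathlib.FieldTheory.IsAlgClosed.AlgebraicClosure
import Mathlib.FieldTheory.IntermediateField.Adjoin.Basic

/-!
# The field extensions of degree four and eight

`exists_sqrt`: adjoining a square root; `exists_L`, `exists_M`: the fields of the two covers.
-/

set_option autoImplicit false
set_option linter.unusedSectionVars false

universe u

open K816.Geo K816.Lat K816.CovTwo

namespace K936.Ext

/-- Adjoining a square root. -/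
theorem exists_sqrt (E : Type u) [Field E] (s : E) : ∃ (M : Type u) (_ : Field M) (_ : Algebra E M) (t : M),
    t ^ 2 = algebraMap E M s ∧ ∀ x : M, ∃ y z : E, x = algebraMap E M y + algebraMap E M z * t := by
  obtain ⟨t, ht⟩ := IsAlgClosed.exists_pow_nat_eq (algebraMap E (AlgebraicClosure E) s) (n := 2) (by norm_num)
  let M := IntermediateField.adjoin E {t}
  let t' : M := ⟨t, IntermediateField.mem_adjoin_simple_self E t⟩
  refine ⟨M, inferInstance, inferInstance, t', Subtype.ext ht, fun x => ?_⟩
  have hint : IsIntegral E t := by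
    refine ⟨Polynomial.X ^ 2 - Polynomial.C s, Polynomial.monic_X_pow_sub_C s two_ne_zero, ?_⟩
    rw [Polynomial.eval₂_sub, Polynomial.eval₂_X_pow, Polynomial.eval₂_C, ht, sub_self]
  have h1 : (x : AlgebraicClosure E) ∈ Algebra.adjoin E {t} := by
    rw [← IntermediateField.adjoin_simple_toSubalgebra_of_isAlgebraic hint.isAlgebraic]
    exact x.2
  have h2 : ∃ y z : E, (x : AlgebraicClosure E) = algebraMap E _ y + algebraMap E _ z * t := by
    generalize (x : AlgebraicClosure E) = x at h1
    induction h1 using Algebra.adjoin_induction with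
    | mem a ha => exact ⟨0, 1, by rw [Set.mem_singleton_iff.1 ha, map_zero, map_one, zero_add, one_mul]⟩
    | algebraMap r => exact ⟨r, 0, by rw [map_zero, zero_mul, add_zero]⟩
    | add a b _ _ ha hb =>
      obtain ⟨y, z, rfl⟩ := ha
      obtain ⟨y', z', rfl⟩ := hb
      exact ⟨y + y', z + z', by rw [map_add, map_add]; ring⟩
    | mul a b _ _ ha hb =>
      obtain ⟨y, z, rfl⟩ := ha
      obtain ⟨y', z', rfl⟩ := hb
      refine ⟨y * y' + z * z' * s, y * z' + y' * z, ?_⟩
      rw [map_add, map_mul, map_mul, map_mul, map_add, map_mul, map_mul]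
      linear_combination (algebraMap E _ z * algebraMap E _ z') * ht
  obtain ⟨y, z, h⟩ := h2
  exact ⟨y, z, Subtype.ext h⟩

variable {K E : Type u} [Field K] [Field E] [Algebra K E] [CharP E 2] (F : PF K E) (w : Par K)

/-- The function field of the cover of degree four. -/
theorem exists_L : ∃ (L : Type u) (_ : Field L) (_ : Algebra E L) (ρ : Rt F w L), ∀ x : L, ∃ d, x = el ρ 0 d := by
  obtain ⟨L1, hf1, ha1, α, hα, h1⟩ := exists_sqrt E (pp F w 0)
  obtain ⟨L, hf, ha, β, hβ, h2⟩ := exists_sqrt L1 (algebraMap E L1 (rr F w 0))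
  let : Algebra E L := ((algebraMap L1 L).comp (algebraMap E L1)).toAlgebra
  have ht : ∀ x : E, algebraMap E L x = algebraMap L1 L (algebraMap E L1 x) := fun _ => rfl
  refine ⟨L, hf, inferInstance, ⟨algebraMap L1 L α, β, by rw [← map_pow, hα, ht], by rw [hβ, ht]⟩, fun x => ?_⟩
  obtain ⟨y, z, rfl⟩ := h2 x
  obtain ⟨y0, y1, rfl⟩ := h1 y
  obtain ⟨z0, z1, rfl⟩ := h1 z
  refine ⟨![y0, y1, z0, z1], ?_⟩
  rw [el, g, F.u_zero, inv_one, map_one, one_mul]
  change _ = algebraMap L1 L (algebraMap E L1 y0) + algebraMap L1 L (algebraMap E L1 y1) * algebraMap L1 L α +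
    algebraMap L1 L (algebraMap E L1 z0) * β + algebraMap L1 L (algebraMap E L1 z1) * (algebraMap L1 L α * β)
  rw [map_add, map_add, map_mul, map_mul]
  ring

/-- The function field of the cover of degree eight. -/
theorem exists_M (L : Type u) [Field L] [Algebra E L] : ∃ (M : Type u) (_ : Field M) (_ : Algebra E M) (_ : Algebra L M)
    (_ : IsScalarTower E L M) (σ : Rt2 F w M), ∀ x : M, ∃ y z : L, x = algebraMap L M y + algebraMap L M z * σ.t := by
  obtain ⟨M, hf, ha, t, ht, h⟩ := exists_sqrt L (algebraMap E L (aE w 0 + F.x 1))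
  let : Algebra E M := ((algebraMap L M).comp (algebraMap E L)).toAlgebra
  exact ⟨M, hf, inferInstance, ha, IsScalarTower.of_algebraMap_eq fun _ => rfl, ⟨t, ht⟩, h⟩

end K936.Ext
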