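import Groth.Agent.Surf.K816.CovTwo
import Mathlib.FieldTheory.IsAlgClosed.AlgebraicClosure
import Mathlib.RingTheory.TensorProduct.Basic
import Mathlib.LinearAlgebra.Basis.VectorSpace

/-!
# The cover of degree eight: it is not geometrically reduced over the field of constants

`not_isReduced_tensor`: `M ⊗[K] K'` is not reduced if `K'` contains the square roots of `K`.
With `t² = a₀ + x₁` one has `β² = (√(a₂ + a₀ a₃) + √a₃ t + x₂ t + √a₀ x₂)²`.
-/

set_option autoImplicit false
set_option linter.unusedSectionVars false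

universe u

open K816.Geo K816.Lat K816.CovTwo TensorProduct

namespace K936.GeoNonAlg

variable {K E : Type u} [Field K] [Field E] [Algebra K E]
variable {L : Type u} [Field L] [Algebra E L] [CharP E 2] {F : PF K E} {w : Par K}
variable {M : Type u} [Field M] [Algebra E M] [Algebra L M] [IsScalarTower E L M] [Algebra K M] [IsScalarTower K E M]
variable (ρ : Rt F w L) (σ : Rt2 F w M) (hsp : ∀ x : L, ∃ d, x = el ρ 0 d)
variable (k' : Type u) [Field k'] [Algebra K k'] (r : Fin 3 → k')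

include ρ hsp in
/-- The coefficient of `t` is not zero. -/
theorem ne_aux (l3 l0 lc : K) :
    algebraMap L M ρ.β + algebraMap E M (F.x 2) * σ.t + algebraMap K M l3 * σ.t + algebraMap K M l0 * algebraMap E M (F.x 2) +
      algebraMap K M lc ≠ 0 := by
  intro h
  have h1 : algebraMap L M (ρ.β + algebraMap E L (algebraMap K E l0 * F.x 2 + algebraMap K E lc)) +
      algebraMap L M (algebraMap E L (F.x 2 + algebraMap K E l3)) * tt ρ σ 0 = 0 := by
    have : tt ρ σ 0 = σ.t := by
      rw [tt]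
      change σ.t + algebraMap L M 0 = _
      rw [map_zero, add_zero]
    rw [this, map_add (algebraMap L M), ← IsScalarTower.algebraMap_apply E L M, ← IsScalarTower.algebraMap_apply E L M,
      map_add, map_add, map_mul, ← IsScalarTower.algebraMap_apply K E M, ← IsScalarTower.algebraMap_apply K E M,
      ← IsScalarTower.algebraMap_apply K E M]
    linear_combination h
  have h2 := (eq_zero_of ρ σ hsp h1).2
  have h3 : F.x 2 + algebraMap K E l3 = 0 := (algebraMap E L).injective (h2.trans (map_zero _).symm)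
  have h4 : MvPolynomial.aeval (fun l : Fin 2 => F.x ((0 : Fin 3).succAbove l) / F.x 0)
      (MvPolynomial.X 1 + MvPolynomial.C l3 : MvPolynomial (Fin 2) K) = 0 := by
    rw [map_add, MvPolynomial.aeval_X, MvPolynomial.aeval_C]
    have := F.c01
    rw [PF.c] at this
    rw [this]
    exact h3
  have h5 := F.inj 0 (h4.trans (map_zero _).symm)
  have h6 := congrArg (MvPolynomial.eval (fun _ => (0 : K))) h5
  have h7 := congrArg (MvPolynomial.eval (fun _ => (1 : K))) h5
  simp only [map_add, MvPolynomial.eval_X, MvPolynomial.eval_C, map_zero] at h6 h7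
  have h8 : l3 = 0 := by simpa using h6
  rw [h8] at h7
  simp at h7

include ρ σ hsp in
/-- The cover of degree eight is not geometrically reduced. -/
theorem not_isReduced_tensor (h0 : r 0 ^ 2 = algebraMap K k' (w.a 0)) (h3 : r 1 ^ 2 = algebraMap K k' (w.a 3))
    (hc : r 2 ^ 2 = algebraMap K k' (w.a 2 + w.a 0 * w.a 3)) : ¬ IsReduced (M ⊗[K] k') := by
  intro hred
  let φ : M →ₐ[K] M ⊗[K] k' := Algebra.TensorProduct.includeLeft
  let ψ : k' →ₐ[K] M ⊗[K] k' := Algebra.TensorProduct.includeRight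
  let B : M := algebraMap L M ρ.β
  let X : M := algebraMap E M (F.x 1)
  let Y : M := algebraMap E M (F.x 2)
  have two : (2 : M) = 0 := two_M σ
  have two' : (2 : M ⊗[K] k') = 0 := by
    have := congrArg φ two
    rwa [map_ofNat, map_zero] at this
  have hB : B ^ 2 = algebraMap K M (w.a 2) + algebraMap K M (w.a 3) * X + Y ^ 2 * X := by
    change algebraMap L M ρ.β ^ 2 = _
    rw [← map_pow, ρ.hβ, ← IsScalarTower.algebraMap_apply, rr, map_add, map_add, map_mul, map_mul, map_pow, aE, aE,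
      ← IsScalarTower.algebraMap_apply, ← IsScalarTower.algebraMap_apply]
  have ht : σ.t ^ 2 = algebraMap K M (w.a 0) + X := by
    rw [σ.ht, map_add, aE, ← IsScalarTower.algebraMap_apply]
  have hψ : ∀ c : K, ψ (algebraMap K k' c) = φ (algebraMap K M c) := fun c => by
    rw [AlgHom.commutes, AlgHom.commutes]
  let η : M ⊗[K] k' := φ B + φ Y * φ σ.t + φ σ.t * ψ (r 1) + φ Y * ψ (r 0) + ψ (r 2)
  have hη : η ^ 2 = 0 := by
    have e0 : ψ (r 0) ^ 2 = φ (algebraMap K M (w.a 0)) := by rw [← map_pow, h0, hψ]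
    have e3 : ψ (r 1) ^ 2 = φ (algebraMap K M (w.a 3)) := by rw [← map_pow, h3, hψ]
    have ec : ψ (r 2) ^ 2 = φ (algebraMap K M (w.a 2)) + φ (algebraMap K M (w.a 0)) * φ (algebraMap K M (w.a 3)) := by
      rw [← map_pow, hc, hψ, map_add, map_mul, map_add, map_mul]
    have eB : φ B ^ 2 = φ (algebraMap K M (w.a 2)) + φ (algebraMap K M (w.a 3)) * φ X + φ Y ^ 2 * φ X := by
      rw [← map_pow, hB, map_add, map_add, map_mul, map_mul, map_pow]
    have et : φ σ.t ^ 2 = φ (algebraMap K M (w.a 0)) + φ X := by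
      rw [← map_pow, ht, map_add]
    have h : ∀ a b c d e : M ⊗[K] k', (a + b + c + d + e) ^ 2 = a ^ 2 + b ^ 2 + c ^ 2 + d ^ 2 + e ^ 2 := by
      intro a b c d e
      linear_combination (a * b + a * c + a * d + a * e + b * c + b * d + b * e + c * d + c * e + d * e) * two'
    rw [h, mul_pow, mul_pow, mul_pow, e0, e3, ec, eB, et]
    linear_combination (φ (algebraMap K M (w.a 2)) + φ (algebraMap K M (w.a 3)) * φ X + φ Y ^ 2 * φ X +
      φ Y ^ 2 * φ (algebraMap K M (w.a 0)) + φ (algebraMap K M (w.a 0)) * φ (algebraMap K M (w.a 3))) * two'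
  have hη0 : η = 0 := by
    have := hred
    exact pow_eq_zero_iff (two_ne_zero) |>.1 hη
  obtain ⟨l, hl⟩ := LinearMap.exists_leftInverse_of_injective (Algebra.linearMap K k') (by
    rw [LinearMap.ker_eq_bot]; exact (algebraMap K k').injective)
  have hl1 : l 1 = 1 := by
    have := LinearMap.congr_fun hl 1
    simpa using this
  let Λ : M ⊗[K] k' →ₗ[K] M := (TensorProduct.rid K M).toLinearMap ∘ₗ TensorProduct.map LinearMap.id l
  have hΛ : ∀ (m : M) (z : k'), Λ (m ⊗ₜ z) = algebraMap K M (l z) * m := by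
    intro m z
    change (TensorProduct.rid K M) (m ⊗ₜ l z) = _
    rw [TensorProduct.rid_tmul, Algebra.smul_def]
  have h1 := congrArg Λ hη0
  have e1 : η = B ⊗ₜ 1 + (Y * σ.t) ⊗ₜ 1 + σ.t ⊗ₜ (r 1) + Y ⊗ₜ (r 0) + 1 ⊗ₜ (r 2) := by
    change B ⊗ₜ 1 + Y ⊗ₜ 1 * σ.t ⊗ₜ 1 + σ.t ⊗ₜ 1 * 1 ⊗ₜ (r 1) + Y ⊗ₜ 1 * 1 ⊗ₜ (r 0) + 1 ⊗ₜ (r 2) = _
    simp only [Algebra.TensorProduct.tmul_mul_tmul, mul_one, one_mul]
  rw [e1, map_add, map_add, map_add, map_add, hΛ, hΛ, hΛ, hΛ, hΛ, hl1, map_one, one_mul, one_mul, mul_one, map_zero] at h1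
  exact ne_aux ρ σ hsp _ _ _ h1

end K936.GeoNonAlg
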