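import Groth.Agent.Surf.K936.GeoRed
import Groth.Agent.Surf.K936.GeoNonAlg

/-!
# The cover of degree eight of the plane is geometrically non-reduced

`exists_not_isReduced_bc`.
-/

set_option autoImplicit false
set_option linter.unusedSectionVars false

universe u

open CategoryTheory AlgebraicGeometry TopologicalSpace Opposite TensorProduct

namespace K936.GeoNon

open K816.Geo K816.Plane K816.Cov K816.CovTwo K816.Norm K816.Real K816.Surface K816.Mods K816.Geom K816.Num K816.Lat
open Groth.Agent.Ega1.QCohLoc K936.GeoRed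

attribute [local instance] Curv2.stalkAlgebra

variable {K : Type u} [Field K] [CharP K 2] {L : Type u} [Field L] [Algebra (E K) L]
variable {M : Type u} [Field M] [Algebra (E K) M] [Algebra L M] [IsScalarTower (E K) L M]
variable {w : Par K} (ρ : Rt (pf K) w L) (σ : Rt2 (pf K) w M) (hsp : ∀ x : L, ∃ d, x = el ρ 0 d)
  (hsp2 : ∀ x : M, ∃ y z : L, x = algebraMap L M y + algebraMap L M z * σ.t)

include ρ σ hsp hsp2 in
/-- The cover of degree eight is not geometrically reduced. -/
theorem exists_not_isReduced_bc : ∃ (E' : Type u) (_ : Field E') (_ : Algebra K E'),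
    ¬ IsReduced (Curv2.bc K (Y K M) E') := by
  refine ⟨AlgebraicClosure K, inferInstance, inferInstance, fun hred => ?_⟩
  let : Algebra K M := ((algebraMap (E K) M).comp (algebraMap K (E K))).toAlgebra
  have ht : IsScalarTower K (E K) M := IsScalarTower.of_algebraMap_eq fun _ => rfl
  have h1 := Groth.Agent.VarietyA.GeomRed.isReduced_stalk_tensorProduct K (Y K M) (AlgebraicClosure K)
    (genericPoint (Y K M))
  let φ : (Y K M).presheaf.stalk (genericPoint (Y K M)) →ₐ[K] M :=
    { ff K M with commutes' := fun c => ff_algebraMap K M c }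
  let e : (Y K M).presheaf.stalk (genericPoint (Y K M)) ≃ₐ[K] M :=
    AlgEquiv.ofBijective φ ⟨(ff K M).injective, ff_surjective (covTwo ρ σ hsp hsp2)⟩
  let e' : ((Y K M).presheaf.stalk (genericPoint (Y K M)) ⊗[K] AlgebraicClosure K) ≃ₐ[K] (M ⊗[K] AlgebraicClosure K) :=
    Algebra.TensorProduct.congr e AlgEquiv.refl
  have h2 : _root_.IsReduced (M ⊗[K] AlgebraicClosure K) :=
    isReduced_of_injective e'.symm e'.symm.injective
  have hs : ∀ a : K, ∃ b : AlgebraicClosure K, b ^ 2 = algebraMap K (AlgebraicClosure K) a := fun a =>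
    IsAlgClosed.exists_pow_nat_eq _ (by norm_num)
  obtain ⟨r0, h0⟩ := hs (w.a 0)
  obtain ⟨r3, h3⟩ := hs (w.a 3)
  obtain ⟨rc, hc⟩ := hs (w.a 2 + w.a 0 * w.a 3)
  exact GeoNonAlg.not_isReduced_tensor ρ σ hsp (AlgebraicClosure K) ![r0, r3, rc] h0 h3 hc h2

end K936.GeoNon
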