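import Groth.Agent.Surf.K816.Lat
import Groth.Agent.Ega41.RedTensor
import Mathlib.FieldTheory.SeparableClosure
import Mathlib.RingTheory.AlgebraicIndependent.AlgebraicClosure
import Mathlib.RingTheory.AlgebraicIndependent.TranscendenceBasis

/-!
# The cover of degree four: separability over the field of constants

`isReduced_tensor`: `L ⊗[K] A` is reduced for every domain `A` (the elements `α`, `β` are a separating
transcendence basis of `L / K`).
-/

set_option autoImplicit false
set_option linter.unusedSectionVars false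
set_option linter.unusedSimpArgs false

universe u

open Polynomial K816.Geo K816.Lat

namespace K936.GeoRedAlg

/-- Simple roots are separable. -/
theorem isSeparable_of_derivative_ne_zero {N L : Type*} [Field N] [Field L] [Algebra N L] {x : L} (P : N[X])
    (hP : aeval x P = 0) (hP' : aeval x (derivative P) ≠ 0) : IsSeparable N x := by
  have h0 : P ≠ 0 := by
    rintro rfl
    exact hP' (by simp)
  have hx : IsIntegral N x := isAlgebraic_iff_isIntegral.1 ⟨P, h0, hP⟩
  have h1 : Irreducible (minpoly N x) := minpoly.irreducible hx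
  change (minpoly N x).Separable
  rw [separable_iff_derivative_ne_zero h1]
  intro h2
  obtain ⟨Q, hQ⟩ := minpoly.dvd N x hP
  apply hP'
  rw [hQ, derivative_mul, h2, zero_mul, zero_add, map_mul, minpoly.aeval, zero_mul]

variable {K E L : Type u} [Field K] [Field E] [Algebra K E] [CharP E 2] [Field L] [Algebra E L] [Algebra K L]
  [IsScalarTower K E L] {F : PF K E} {w : Par K} (ρ : Rt F w L)

/-- The separating transcendence basis. -/
def v : Fin 2 → L := ![ρ.α, ρ.β]

/-- The purely transcendental subfield. -/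
noncomputable abbrev N : IntermediateField K L := IntermediateField.adjoin K (Set.range (v ρ))

theorem α_mem : ρ.α ∈ N ρ := IntermediateField.subset_adjoin _ _ ⟨0, rfl⟩

theorem β_mem : ρ.β ∈ N ρ := IntermediateField.subset_adjoin _ _ ⟨1, rfl⟩

variable (F) in
/-- the coordinate `x_1`. -/
noncomputable def x1 : L := algebraMap E L (F.x 1)

variable (F) in
/-- the coordinate `x_2`. -/
noncomputable def x2 : L := algebraMap E L (F.x 2)

include ρ in
theorem two_L : (2 : L) = 0 := K816.Lat.two_L ρ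

theorem hα : ρ.α ^ 2 = algebraMap K L (w.a 1) + x2 F + x1 F ^ 3 := by
  rw [ρ.hα, pp, map_add, map_add, map_pow, IsScalarTower.algebraMap_apply K E L]
  rfl

theorem hβ : ρ.β ^ 2 = algebraMap K L (w.a 2) + algebraMap K L (w.a 3) * x1 F + x2 F ^ 2 * x1 F := by
  rw [ρ.hβ, rr, map_add, map_add, map_mul, map_mul, map_pow, IsScalarTower.algebraMap_apply K E L,
    IsScalarTower.algebraMap_apply K E L]
  rfl

theorem hx2 : x2 F = ρ.α ^ 2 + algebraMap K L (w.a 1) + x1 F ^ 3 := by
  linear_combination (-1) * hα ρ - (algebraMap K L (w.a 1) + x1 F ^ 3) * two_L ρ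

/-- The constants. -/
noncomputable def cK (i : Fin 4) : N ρ := algebraMap K (N ρ) (w.a i)

/-- The coefficient. -/
noncomputable def c1 : N ρ := (⟨ρ.α, α_mem ρ⟩ : N ρ) ^ 4 + cK ρ 1 ^ 2 + cK ρ 3

/-- The coefficient. -/
noncomputable def c0 : N ρ := cK ρ 2 + (⟨ρ.β, β_mem ρ⟩ : N ρ) ^ 2

/-- The equation of `x_1`. -/
noncomputable def P : (N ρ)[X] := X ^ 7 + C (c1 ρ) * X + C (c0 ρ)

theorem coe_cK (i : Fin 4) : (algebraMap (N ρ) L) (cK ρ i) = algebraMap K L (w.a i) := rfl

theorem coe_c1 : algebraMap (N ρ) L (c1 ρ) = ρ.α ^ 4 + algebraMap K L (w.a 1) ^ 2 + algebraMap K L (w.a 3) := rfl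

theorem coe_c0 : algebraMap (N ρ) L (c0 ρ) = algebraMap K L (w.a 2) + ρ.β ^ 2 := rfl

theorem aeval_P : aeval (x1 F : L) (P ρ) = 0 := by
  simp only [P, map_add, map_mul, map_pow, aeval_X, aeval_C, coe_c1, coe_c0]
  have h1 := hβ ρ
  rw [hx2 ρ] at h1
  linear_combination h1 + (x1 F ^ 7 + algebraMap K L (w.a 1) ^ 2 * x1 F + ρ.α ^ 4 * x1 F + algebraMap K L (w.a 2) + algebraMap K L (w.a 3) * x1 F +
    x1 F * (ρ.α ^ 2 * algebraMap K L (w.a 1) + ρ.α ^ 2 * x1 F ^ 3 + algebraMap K L (w.a 1) * x1 F ^ 3)) * two_L ρ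

theorem aeval_P' : aeval (x1 F : L) (derivative (P ρ)) = x2 F ^ 2 + algebraMap K L (w.a 3) := by
  simp only [P, derivative_add, derivative_mul, derivative_X_pow, derivative_C, derivative_X, zero_mul, zero_add,
    mul_one, add_zero, map_add, map_mul, map_pow, aeval_X, aeval_C, coe_c1, map_natCast]
  have h1 := hα ρ
  have h2 : ρ.α ^ 4 = (algebraMap K L (w.a 1) + x2 F + x1 F ^ 3) ^ 2 := by rw [← h1]; ring
  rw [h2]
  push_cast
  linear_combination (4 * x1 F ^ 6 + algebraMap K L (w.a 1) ^ 2 + algebraMap K L (w.a 1) * x2 F +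
    algebraMap K L (w.a 1) * x1 F ^ 3 + x2 F * x1 F ^ 3) * two_L ρ

/-- `x_2² + a_3 ≠ 0`. -/
theorem sq_add_ne : (x2 F ^ 2 + algebraMap K L (w.a 3) : L) ≠ 0 := by
  intro h
  have h1 : algebraMap E L (F.x 2 ^ 2 + algebraMap K E (w.a 3)) = 0 := by
    rw [map_add, map_pow, ← IsScalarTower.algebraMap_apply]
    exact h
  have h2 : F.x 2 ^ 2 + algebraMap K E (w.a 3) = 0 := (algebraMap E L).injective (h1.trans (map_zero _).symm)
  have h3 : MvPolynomial.aeval (fun l : Fin 2 => F.x ((0 : Fin 3).succAbove l) / F.x 0)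
      (MvPolynomial.X 1 ^ 2 + MvPolynomial.C (w.a 3) : MvPolynomial (Fin 2) K) = 0 := by
    rw [map_add, map_pow, MvPolynomial.aeval_X, MvPolynomial.aeval_C]
    have := F.c01
    rw [PF.c] at this
    rw [this]
    exact h2
  have h4 := F.inj 0 (h3.trans (map_zero _).symm)
  have h5 := congrArg (MvPolynomial.eval (fun _ => (0 : K))) h4
  have h6 := congrArg (MvPolynomial.eval (fun _ => (1 : K))) h4
  simp only [map_add, map_pow, MvPolynomial.eval_X, MvPolynomial.eval_C, map_zero] at h5 h6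
  have h7 : w.a 3 = 0 := by simpa using h5
  rw [h7] at h6
  simp at h6

theorem isSeparable_x1 : IsSeparable (N ρ) (x1 F : L) :=
  isSeparable_of_derivative_ne_zero (P ρ) (aeval_P ρ) (by
    rw [aeval_P']
    exact sq_add_ne)

variable (hgen : ∀ z : L, ∃ d, z = el ρ 0 d)

/-- The field generated by `x_1` over `K(α, β)`. -/
noncomputable abbrev N1 : IntermediateField (N ρ) L := IntermediateField.adjoin (N ρ) {(x1 F : L)}

theorem x1_mem : (x1 F : L) ∈ N1 ρ := IntermediateField.mem_adjoin_simple_self _ _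

theorem x2_mem : (x2 F : L) ∈ N1 ρ := by
  rw [hx2 ρ]
  have h1 : ρ.α ∈ N1 ρ := (N1 ρ).algebraMap_mem ⟨ρ.α, α_mem ρ⟩
  have h2 : algebraMap K L (w.a 1) ∈ N1 ρ := (N1 ρ).algebraMap_mem (cK ρ 1)
  exact add_mem (add_mem (pow_mem h1 2) h2) (pow_mem (x1_mem ρ) 3)

theorem map_mem (z : E) : algebraMap E L z ∈ N1 ρ := by
  have hp : ∀ p : MvPolynomial (Fin 2) K,
      algebraMap E L (MvPolynomial.aeval (fun l : Fin 2 => F.x ((0 : Fin 3).succAbove l) / F.x 0) p) ∈ N1 ρ := by
    intro p
    induction p using MvPolynomial.induction_on with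
    | C a =>
      rw [MvPolynomial.aeval_C, ← IsScalarTower.algebraMap_apply]
      exact (N1 ρ).algebraMap_mem (algebraMap K (N ρ) a)
    | add p q hp hq => rw [map_add, map_add]; exact add_mem hp hq
    | mul_X p i hp =>
      rw [map_mul, map_mul, MvPolynomial.aeval_X]
      refine mul_mem hp ?_
      fin_cases i
      · change algebraMap E L (F.c 0 0) ∈ N1 ρ
        rw [F.c00]
        exact x1_mem ρ
      · change algebraMap E L (F.c 0 1) ∈ N1 ρ
        rw [F.c01]
        exact x2_mem ρ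
  obtain ⟨p, q, hq, h⟩ := F.frac 0 z
  have h1 : z = _ / _ := eq_div_of_mul_eq hq h
  rw [h1, map_div₀]
  exact div_mem (hp p) (hp q)

include hgen in
theorem N1_eq_top : N1 ρ = ⊤ := by
  rw [eq_top_iff]
  intro z _
  obtain ⟨d, rfl⟩ := hgen z
  have h1 : ρ.α ∈ N1 ρ := (N1 ρ).algebraMap_mem ⟨ρ.α, α_mem ρ⟩
  have h2 : ρ.β ∈ N1 ρ := (N1 ρ).algebraMap_mem ⟨ρ.β, β_mem ρ⟩
  have h3 : K816.Lat.e ρ 0 ∈ N1 ρ := h1
  have h4 : K816.Lat.f ρ 0 ∈ N1 ρ := h2
  have h5 : K816.Lat.g ρ 0 ∈ N1 ρ := mul_mem (map_mem ρ _) (mul_mem h3 h4)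
  rw [el]
  exact add_mem (add_mem (add_mem (map_mem ρ _) (mul_mem (map_mem ρ _) h3)) (mul_mem (map_mem ρ _) h4))
    (mul_mem (map_mem ρ _) h5)

include hgen in
theorem isSeparable_L : Algebra.IsSeparable (N ρ) L := by
  have h1 : Algebra.IsSeparable (N ρ) (N1 ρ) :=
    (IntermediateField.isSeparable_adjoin_simple_iff_isSeparable (N ρ) L).2 (isSeparable_x1 ρ)
  rw [N1_eq_top ρ hgen] at h1
  exact Algebra.IsSeparable.of_equiv_equiv (RingEquiv.refl (N ρ))
    (IntermediateField.topEquiv (F := N ρ) (E := L)).toRingEquiv (by ext; rfl)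

open scoped IntermediateField.algebraAdjoinAdjoin in
include hgen in
theorem algebraicIndependent_v : AlgebraicIndependent K (v ρ) := by
  have h1 := isSeparable_L ρ hgen
  have h2 : Algebra.IsAlgebraic (N ρ) L := inferInstance
  have h3 : Algebra.IsAlgebraic (Algebra.adjoin K (Set.range (v ρ))) L :=
    (IsFractionRing.comap_isAlgebraic_iff (K := N ρ)).2 h2
  refine (Algebra.IsAlgebraic.isTranscendenceBasis_of_lift_le_trdeg_of_finite K (v ρ) ?_).1
  have h4 : AlgebraicIndependent K (fun l : Fin 2 => F.x ((0 : Fin 3).succAbove l) / F.x 0) := F.inj 0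
  have h5 := h4.map' (f := IsScalarTower.toAlgHom K E L) (algebraMap E L).injective
  exact h5.lift_cardinalMk_le_trdeg

include hgen in
/-- The cover is geometrically reduced. -/
theorem isReduced_tensor (A : Type*) [CommRing A] [IsDomain A] [Algebra K A] : IsReduced (TensorProduct K L A) := by
  have h1 := isSeparable_L ρ hgen
  exact Groth.Agent.Ega41.RedTensor.isReduced_tensor_of_separating (algebraicIndependent_v ρ hgen) A

end K936.GeoRedAlg
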