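import Groth.Agent.Surf.K816.Num
import Groth.Agent.Surf.K936.GeoRedAlg
import Groth.Agent.VarietyA.GeomRed

/-!
# The cover of degree four of the plane is geometrically reduced

`ff : functionField (Y K L) →+* L` (bijective, `ff_algebraMap`, for every cover); `isReduced_bc`.
-/

set_option autoImplicit false
set_option linter.unusedSectionVars false

universe u

open CategoryTheory AlgebraicGeometry TopologicalSpace Opposite

namespace K936.GeoRed

open K816.Geo K816.Plane K816.Cov K816.Norm K816.Real K816.Surface K816.Mods K816.Geom K816.Num K816.Lat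
open Groth.Agent.Ega1.QCohLoc

attribute [local instance] Curv2.stalkAlgebra

section ff

variable (K : Type u) [Field K] (L : Type u) [Field L] [Algebra (E K) L]

theorem isFractionRing_Y : IsFractionRing Γ(Y K L, UY K L 0) (Y K L).functionField :=
  functionField_isFractionRing_of_isAffineOpen (Y K L) (UY K L 0) (isAffineOpen_UY 0)

/-- The function field of the surface. -/
noncomputable def ff : (Y K L).functionField →+* L :=
  haveI := isFractionRing_Y K L
  IsFractionRing.lift (K := (Y K L).functionField) (e_injective K L 0)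

theorem ff_germ (s : Γ(Y K L, UY K L 0)) :
    ff K L ((Y K L).germToFunctionField (UY K L 0) s) = e K L 0 s := by
  have := isFractionRing_Y K L
  exact IsFractionRing.lift_algebraMap (K := (Y K L).functionField) (e_injective K L 0) s

theorem res_toGlobal (c : K) :
    resO (le_top : UY K L 0 ≤ ⊤) (Coh.toGlobal (Y K L ↘ Spec (CommRingCat.of K)) c) =
      (p K L).app (U K 0) (pol K 0 (MvPolynomial.C c)) := by
  rw [← ores_cst]
  have h1 : Coh.toGlobal (Y K L ↘ Spec (CommRingCat.of K)) c = (p K L).app ⊤ (cst K c) := by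
    change (fY K L).appTop ((Scheme.ΓSpecIso (CommRingCat.of K)).inv c) = _
    rw [fY, Scheme.Hom.comp_appTop]
    rfl
  rw [h1]
  exact (congr($((p K L).naturality (homOfLE (le_top : U K 0 ≤ ⊤)).op) (cst K c))).symm

/-- `ff` is `K`-linear. -/
theorem ff_algebraMap (c : K) :
    ff K L (algebraMap K ((Y K L).presheaf.stalk (genericPoint (Y K L))) c) =
      algebraMap (E K) L (algebraMap K (E K) c) := by
  have h1 : algebraMap K ((Y K L).presheaf.stalk (genericPoint (Y K L))) c =
      (Y K L).germToFunctionField (UY K L 0)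
        (resO (le_top : UY K L 0 ≤ ⊤) (Coh.toGlobal (Y K L ↘ Spec (CommRingCat.of K)) c)) := by
    exact ((Y K L).presheaf.germ_res_apply (homOfLE (le_top : UY K L 0 ≤ ⊤)) _ _
      (Coh.toGlobal (Y K L ↘ Spec (CommRingCat.of K)) c)).symm
  rw [h1, ff_germ, res_toGlobal, e_app, ← algebraMap_eq K 0]

variable {K L} in
/-- `ff` is onto for the covers of degree four and eight. -/
theorem ff_surjective [CharP K 2] {κ : Type} [Fintype κ] [DecidableEq κ] (C : Cov (pf K) L κ) :
    Function.Surjective (ff K L) := by
  intro z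
  obtain ⟨x, hx⟩ := exists_sq C z
  obtain ⟨p, q, hq, h⟩ := (pf K).frac 0 x
  let a : E K := MvPolynomial.aeval (fun l : Fin 2 => (pf K).x ((0 : Fin 3).succAbove l) / (pf K).x 0) p
  let b : E K := MvPolynomial.aeval (fun l : Fin 2 => (pf K).x ((0 : Fin 3).succAbove l) / (pf K).x 0) q
  have ha : a ∈ (pf K).A 0 := ⟨p, rfl⟩
  have hb : b ∈ (pf K).A 0 := ⟨q, rfl⟩
  have hab : x * b = a := h
  have hb0 : algebraMap (E K) L b ≠ 0 := fun h0 => hq ((algebraMap (E K) L).injective (h0.trans (map_zero _).symm))
  obtain ⟨s, hs⟩ := exists_e (K := K) (L := L) 0 (z := algebraMap (E K) L b * z)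
    ⟨a * b, Subalgebra.mul_mem _ ha hb, by rw [mul_pow, hx, ← map_pow, ← map_mul, ← hab]; ring_nf⟩
  obtain ⟨t, ht⟩ := exists_e (K := K) (L := L) 0 (z := algebraMap (E K) L b)
    ⟨b ^ 2, Subalgebra.pow_mem _ hb 2, by rw [map_pow]⟩
  refine ⟨(Y K L).germToFunctionField (UY K L 0) s / (Y K L).germToFunctionField (UY K L 0) t, ?_⟩
  rw [map_div₀, ff_germ, ff_germ, hs, ht, mul_div_cancel_left₀ _ hb0]

end ff

section red

variable {K : Type u} [Field K] [CharP K 2] {L : Type u} [Field L] [Algebra (E K) L] {w : Par K} (ρ : Rt (pf K) w L)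
  (hsp : ∀ x : L, ∃ d, x = el ρ 0 d)

include hsp in
/-- The cover of degree four is geometrically reduced. -/
theorem isReduced_bc (E' : Type u) [Field E'] [Algebra K E'] : IsReduced (Curv2.bc K (Y K L) E') := by
  let : Algebra K L := ((algebraMap (E K) L).comp (algebraMap K (E K))).toAlgebra
  have ht : IsScalarTower K (E K) L := IsScalarTower.of_algebraMap_eq fun _ => rfl
  have h1 : Algebra.IsGeometricallyReduced K L := by
    rw [Algebra.isGeometricallyReduced_field_iff]
    have := GeoRedAlg.isReduced_tensor ρ hsp (AlgebraicClosure K)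
    exact Groth.Agent.VarietyA.GeomRedAlg.isReduced_tensorProduct_comm this
  let φ : (Y K L).presheaf.stalk (genericPoint (Y K L)) →ₐ[K] L :=
    { ff K L with commutes' := fun c => ff_algebraMap K L c }
  have h2 : Algebra.IsGeometricallyReduced K ((Y K L).presheaf.stalk (genericPoint (Y K L))) :=
    Algebra.IsGeometricallyReduced.of_injective φ (ff K L).injective
  have h3 := (Groth.Agent.VarietyA.GeomRed.geometricallyReduced_iff_functionField K (Y K L)).2 h2
  have h4 := (geometricallyReduced_iff _).1 h3
  rw [geometrically_iff_of_commRing_of_isClosedUnderIsomorphisms] at h4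
  exact h4 E'

end red

end K936.GeoRed
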