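import Groth.Agent.Surf.K816.Main
import Groth.Agent.Surf.K816.Glob
import Groth.Agent.Surf.K816.Const
import Groth.Agent.Surf.K936.Ext
import Groth.Agent.Surf.K936.GeoRed
import Groth.Agent.Surf.K936.GeoNon

/-!
# The regular del Pezzo surfaces of Maddock: assembly
-/

set_option autoImplicit false
set_option linter.unusedSectionVars false

universe u

open CategoryTheory CategoryTheory.Limits AlgebraicGeometry TopologicalSpace Opposite

namespace K936.Fin

open K816.Geo K816.Plane K816.Cov K816.CovTwo K816.Surface K816.Mods K816.Geom K816.Num K816.Lat K816.Amp K816.Ideals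

section summary

variable {K : Type u} [Field K] [CharP K 2] {L : Type u} [Field L] [Algebra (E K) L] {κ : Type} [Fintype κ]
  [DecidableEq κ] {m : ℤ}

/-- Everything except geometric reducedness. -/
theorem summary (C : Cov (pf K) L κ) (hG : K816.RegThree.Good (pf K) L) (hn : Nums K L m)
    (hc : ∀ x : L, (∃ c : K, x ^ 2 = algebraMap (E K) L (algebraMap K (E K) c)) → ∃ y : E K, x = algebraMap (E K) L y)
    (P : Prop) (hP : P) :
    ∃ (ω : (Y K L).Modules) (t : Coh.HH (Y K L) ω 2 →ₗ[K] K) (M : (Y K L).Modules),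
      (∃ (n : ℕ) (ι : Y K L ⟶ CohB1.ProjSpace n K), IsClosedImmersion ι ∧
          ι ≫ CohB1.ProjSpace.toSpec n K = fY K L) ∧
      AlgebraicGeometry.IsIntegral (Y K L) ∧ topologicalKrullDim (Y K L) = 2 ∧
      (∀ x : Y K L, IsRegularLocalRing ((Y K L).presheaf.stalk x)) ∧ IsIso (fY K L).appTop ∧
      Coh.IsCoh ω ∧ PicF.IsInvertible ω ∧
      (∀ G : (Y K L).Modules, Coh.IsCoh G → ∀ ψ : Coh.HH (Y K L) G 2 →ₗ[K] K,
        ∃! φ : G ⟶ ω, ∀ x : Coh.HH (Y K L) G 2,
          ψ x = t (Sheaf.H.map ((SheafOfModules.toSheaf (Y K L).ringCatSheaf).map φ) 2 x)) ∧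
      PicF.IsInvertible M ∧ Nonempty (CohB1.tensorMod M ω ≅ Coh.structureModule (Y K L)) ∧ CohB1.IsAmple M ∧
      Curv2.genus K (Y K L) = 1 ∧
      FGA.intNum K (Y K L) 2 ![ω, ω] (Coh.structureModule (Y K L)) = m ∧ P := by
  have hp := properY C
  have hΓ := K816.Glob.isIso_fY C hc
  obtain ⟨t, ht⟩ := K816.DualB.duality_Y C
  obtain ⟨M, hM, hMω, hMa⟩ := exists_ample C
  exact ⟨om K L, t, M, projective C, inferInstance, dim_Y, isRegular_stalk C hG, hΓ,
    K464.Base.isCoh_idealMod K (Y K L) _, isInvertible_om C, ht, hM, hMω, hMa, K816.Main.genus_eq C hn hΓ,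
    K816.Main.intNum_eq C hn, hP⟩

end summary

section fields

variable {K : Type u} [Field K] [CharP K 2] {L : Type u} [Field L] [Algebra (E K) L]
variable {M : Type u} [Field M] [Algebra (E K) M] [Algebra L M] [IsScalarTower (E K) L M]
variable {w : Par K} (ρ : Rt (pf K) w L) (σ : Rt2 (pf K) w M) (hsp : ∀ x : L, ∃ d, x = el ρ 0 d)
  (hsp2 : ∀ x : M, ∃ y z : L, x = algebraMap L M y + algebraMap L M z * σ.t)

theorem el_of {c : Fin 4 → E K} (h1 : c 1 = 0) (h2 : c 2 = 0) (h3 : c 3 = 0) : el ρ 0 c = algebraMap (E K) L (c 0) := by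
  rw [el, h1, h2, h3, map_zero]
  ring

include hsp in
theorem const_one (x : L) (hx : ∃ c : K, x ^ 2 = algebraMap (E K) L (algebraMap K (E K) c)) :
    ∃ y : E K, x = algebraMap (E K) L y := by
  obtain ⟨c, hc⟩ := hx
  obtain ⟨d, rfl⟩ := hsp x
  rw [el_sq] at hc
  obtain ⟨h1, h2, h3⟩ := K816.Const.const_one ((algebraMap (E K) L).injective hc)
  exact ⟨d 0, el_of ρ h1 h2 h3⟩

include ρ hsp hsp2 in
theorem const_two (x : M) (hx : ∃ c : K, x ^ 2 = algebraMap (E K) M (algebraMap K (E K) c)) :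
    ∃ y : E K, x = algebraMap (E K) M y := by
  obtain ⟨c, hc⟩ := hx
  obtain ⟨y, z, rfl⟩ := exists_yz ρ σ hsp hsp2 0 x
  obtain ⟨d, rfl⟩ := hsp y
  obtain ⟨d', rfl⟩ := hsp z
  rw [sq_yz, el_sq, el_sq, ← IsScalarTower.algebraMap_apply, ← IsScalarTower.algebraMap_apply, ← map_mul, ← map_add] at hc
  obtain ⟨⟨h1, h2, h3⟩, h4⟩ := K816.Const.const_two ((algebraMap (E K) M).injective hc)
  refine ⟨d 0, ?_⟩
  rw [el_of ρ h1 h2 h3, h4, el_of ρ rfl rfl rfl, ← IsScalarTower.algebraMap_apply]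
  simp

end fields

end K936.Fin
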