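import Groth.Agent.Surf.K816.Geo
import Mathlib.RingTheory.AlgebraicIndependent.TranscendenceBasis
import Mathlib.FieldTheory.IntermediateField.Adjoin.Basic
import Mathlib.Algebra.MvPolynomial.PDeriv

/-!
# Parameters of the two base fields

`exists_par`: parameters of a field of rational functions in four variables; `exists_par_frac`, `exists_par_even`:
the field `F(X₀, …, X₃)` and its subfield generated by the products `X_i X_j`.
-/

set_option autoImplicit false

universe u

open MvPolynomial K816.Geo

namespace K936.ParFld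

/-- Parameters from a family of generators. -/
theorem exists_par {F Q : Type u} [Field F] [Field Q] [Algebra F Q] (a : Fin 4 → Q)
    (hinj : Function.Injective (aeval a : MvPolynomial (Fin 4) F →ₐ[F] Q))
    (hfrac : ∀ z : Q, ∃ p q : MvPolynomial (Fin 4) F, aeval a q ≠ 0 ∧ z * aeval a q = aeval a p) :
    ∃ w : Par Q, w.a = a := by
  have key : ∀ i : Fin 4, ∃ D : Derivation ℤ Q Q, ∀ p : MvPolynomial (Fin 4) F, D (aeval a p) =
      aeval a (pderiv i p) := by
    intro i
    obtain ⟨D, hD⟩ := K816.Fld.extend (aeval a : MvPolynomial (Fin 4) F →ₐ[F] Q).toRingHom hfrac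
      ((aeval a : MvPolynomial (Fin 4) F →ₐ[F] Q).toRingHom.toAddMonoidHom.comp
        (pderiv i : Derivation F (MvPolynomial (Fin 4) F) (MvPolynomial (Fin 4) F)).toLinearMap.toAddMonoidHom)
      (fun p q => by
        change aeval a (pderiv i (p * q)) = aeval a p * aeval a (pderiv i q) + aeval a q * aeval a (pderiv i p)
        rw [Derivation.leibniz, map_add, smul_eq_mul, smul_eq_mul, map_mul, map_mul])
      (fun p hp => by
        have h0 : p = 0 := hinj (by rw [map_zero]; exact hp)
        rw [h0, map_zero])
    exact ⟨D, hD⟩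
  choose D hD using key
  refine ⟨⟨a, D, fun i j => ?_⟩, rfl⟩
  have h := hD i (X j)
  rw [aeval_X] at h
  rw [h, pderiv_X, Pi.single_apply]
  by_cases hij : i = j
  · subst hij; simp
  · rw [if_neg hij, if_neg (fun h => hij h.symm), map_zero]

variable (F : Type u) [Field F]

/-- Parameters of the field of rational functions. -/
theorem exists_par_frac : ∃ w : Par (FractionRing (MvPolynomial (Fin 4) F)),
    w.a = fun i => algebraMap (MvPolynomial (Fin 4) F) _ (X i) := by
  have h : ∀ p : MvPolynomial (Fin 4) F, aeval (fun i => algebraMap (MvPolynomial (Fin 4) F)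
      (FractionRing (MvPolynomial (Fin 4) F)) (X i)) p = algebraMap _ _ p := by
    intro p
    have := aeval_algebraMap_apply (FractionRing (MvPolynomial (Fin 4) F)) (X : Fin 4 → MvPolynomial (Fin 4) F) p
    rw [aeval_X_left, AlgHom.id_apply] at this
    exact this
  refine exists_par (F := F) _ ?_ ?_
  · intro p q hpq
    rw [h, h] at hpq
    exact IsFractionRing.injective (MvPolynomial (Fin 4) F) (FractionRing (MvPolynomial (Fin 4) F)) hpq
  · intro z
    obtain ⟨p, q, hq, rfl⟩ := IsFractionRing.div_surjective (A := MvPolynomial (Fin 4) F) z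
    have hq0 : algebraMap (MvPolynomial (Fin 4) F) (FractionRing (MvPolynomial (Fin 4) F)) q ≠ 0 :=
      fun h0 => nonZeroDivisors.ne_zero hq
        ((IsFractionRing.injective (MvPolynomial (Fin 4) F) (FractionRing (MvPolynomial (Fin 4) F))) (by rw [h0, map_zero]))
    refine ⟨p, q, ?_, ?_⟩
    · rw [h]; exact hq0
    · rw [h, h, div_mul_cancel₀ _ hq0]

section even

local notation "L" => FractionRing (MvPolynomial (Fin 4) F)

/-- The variables. -/
noncomputable def x (i : Fin 4) : FractionRing (MvPolynomial (Fin 4) F) :=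
  algebraMap (MvPolynomial (Fin 4) F) (FractionRing (MvPolynomial (Fin 4) F)) (X i)

theorem x_ne (i : Fin 4) : x F i ≠ 0 := fun h => X_ne_zero (R := F) i
  ((IsFractionRing.injective (MvPolynomial (Fin 4) F) (FractionRing (MvPolynomial (Fin 4) F))) (by
    rw [map_zero]; exact h))

theorem aeval_x (p : MvPolynomial (Fin 4) F) : aeval (x F) p = algebraMap _ (FractionRing (MvPolynomial (Fin 4) F)) p := by
  have := aeval_algebraMap_apply (FractionRing (MvPolynomial (Fin 4) F)) (X : Fin 4 → MvPolynomial (Fin 4) F) p
  rw [aeval_X_left, AlgHom.id_apply] at this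
  exact this

theorem algebraicIndependent_x : AlgebraicIndependent F (x F) := by
  intro p q hpq
  rw [aeval_x, aeval_x] at hpq
  exact IsFractionRing.injective (MvPolynomial (Fin 4) F) (FractionRing (MvPolynomial (Fin 4) F)) hpq

/-- `b₀ = X₀²`, `b_i = X_i / X₀`. -/
noncomputable def b (i : Fin 4) : FractionRing (MvPolynomial (Fin 4) F) :=
  if i = 0 then x F 0 ^ 2 else x F i / x F 0

theorem b_zero : b F 0 = x F 0 ^ 2 := if_pos rfl

theorem b_of_ne {i : Fin 4} (hi : i ≠ 0) : b F i = x F i / x F 0 := if_neg hi

theorem isAlgebraic_x (i : Fin 4) : IsAlgebraic (Algebra.adjoin F (Set.range (b F))) (x F i) := by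
  have h0 : IsAlgebraic (Algebra.adjoin F (Set.range (b F))) (x F 0) := by
    refine IsAlgebraic.of_pow (n := 2) (by norm_num) ?_
    rw [← b_zero]
    exact isAlgebraic_algebraMap (⟨b F 0, Algebra.subset_adjoin ⟨0, rfl⟩⟩ : Algebra.adjoin F (Set.range (b F)))
  by_cases hi : i = 0
  · rw [hi]; exact h0
  · have h1 : x F i = b F i * x F 0 := by rw [b_of_ne F hi, div_mul_cancel₀ _ (x_ne F 0)]
    rw [h1]
    exact IsAlgebraic.mul (isAlgebraic_algebraMap
      (⟨b F i, Algebra.subset_adjoin ⟨i, rfl⟩⟩ : Algebra.adjoin F (Set.range (b F)))) h0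

theorem isAlgebraic_frac : Algebra.IsAlgebraic (Algebra.adjoin F (Set.range (b F)))
    (FractionRing (MvPolynomial (Fin 4) F)) := by
  have hp : ∀ p : MvPolynomial (Fin 4) F, IsAlgebraic (Algebra.adjoin F (Set.range (b F)))
      (algebraMap _ (FractionRing (MvPolynomial (Fin 4) F)) p) := by
    intro p
    rw [← aeval_x]
    induction p using MvPolynomial.induction_on with
    | C a =>
      rw [aeval_C, IsScalarTower.algebraMap_apply F (Algebra.adjoin F (Set.range (b F))) L]
      exact isAlgebraic_algebraMap _
    | add p q hp hq => rw [map_add]; exact hp.add hq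
    | mul_X p i hp => rw [map_mul, aeval_X]; exact hp.mul (isAlgebraic_x F i)
  refine ⟨fun z => ?_⟩
  obtain ⟨p, q, hq, rfl⟩ := IsFractionRing.div_surjective (A := MvPolynomial (Fin 4) F) z
  rw [div_eq_mul_inv]
  exact (hp p).mul (hp q).inv

theorem algebraicIndependent_b : AlgebraicIndependent F (b F) := by
  have := isAlgebraic_frac F
  refine (Algebra.IsAlgebraic.isTranscendenceBasis_of_lift_le_trdeg_of_finite F (b F) ?_).1
  exact (algebraicIndependent_x F).lift_cardinalMk_le_trdeg

theorem adjoin_eq : IntermediateField.adjoin F (Set.range fun ij : Fin 4 × Fin 4 =>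
      algebraMap (MvPolynomial (Fin 4) F) (FractionRing (MvPolynomial (Fin 4) F)) (X ij.1 * X ij.2)) =
    IntermediateField.adjoin F (Set.range (b F)) := by
  have hx : ∀ i j, algebraMap (MvPolynomial (Fin 4) F) (FractionRing (MvPolynomial (Fin 4) F)) (X i * X j) =
      x F i * x F j := fun i j => map_mul _ _ _
  apply le_antisymm
  · rw [IntermediateField.adjoin_le_iff]
    rintro _ ⟨⟨i, j⟩, rfl⟩
    change algebraMap (MvPolynomial (Fin 4) F) (FractionRing (MvPolynomial (Fin 4) F)) (X i * X j) ∈ _
    rw [hx]
    have hb : ∀ l, b F l ∈ IntermediateField.adjoin F (Set.range (b F)) := fun l =>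
      IntermediateField.subset_adjoin _ _ ⟨l, rfl⟩
    have hd : ∀ l, x F l / x F 0 ∈ IntermediateField.adjoin F (Set.range (b F)) := by
      intro l
      by_cases hl : l = 0
      · rw [hl, div_self (x_ne F 0)]; exact one_mem _
      · rw [← b_of_ne F hl]; exact hb l
    have h0 : x F 0 ^ 2 ∈ IntermediateField.adjoin F (Set.range (b F)) := by rw [← b_zero]; exact hb 0
    have h1 : x F i * x F j = x F i / x F 0 * (x F j / x F 0) * x F 0 ^ 2 := by
      have := x_ne F 0
      field_simp
    rw [h1]
    exact mul_mem (mul_mem (hd i) (hd j)) h0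
  · rw [IntermediateField.adjoin_le_iff]
    rintro _ ⟨i, rfl⟩
    have hm : ∀ k l, x F k * x F l ∈ IntermediateField.adjoin F (Set.range fun ij : Fin 4 × Fin 4 =>
        algebraMap (MvPolynomial (Fin 4) F) (FractionRing (MvPolynomial (Fin 4) F)) (X ij.1 * X ij.2)) :=
      fun k l => IntermediateField.subset_adjoin _ _ ⟨(k, l), hx k l⟩
    by_cases hi : i = 0
    · rw [hi, b_zero, pow_two]; exact hm 0 0
    · rw [b_of_ne F hi]
      have h1 : x F i / x F 0 = x F i * x F 0 / (x F 0 * x F 0) := by
        have := x_ne F 0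
        field_simp
      rw [h1]
      exact div_mem (hm i 0) (hm 0 0)

/-- Parameters of the subfield generated by the products of two variables. -/
theorem exists_par_even (K : IntermediateField F (FractionRing (MvPolynomial (Fin 4) F)))
    (hK : K = IntermediateField.adjoin F (Set.range fun ij : Fin 4 × Fin 4 =>
      algebraMap (MvPolynomial (Fin 4) F) (FractionRing (MvPolynomial (Fin 4) F)) (X ij.1 * X ij.2))) :
    ∃ w : Par K, ∀ i, (w.a i : FractionRing (MvPolynomial (Fin 4) F)) = b F i := by
  rw [adjoin_eq] at hK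
  have hb : ∀ i, b F i ∈ K := fun i => hK ▸ IntermediateField.subset_adjoin _ _ ⟨i, rfl⟩
  let a : Fin 4 → K := fun i => ⟨b F i, hb i⟩
  have ha : ∀ p : MvPolynomial (Fin 4) F, ((aeval a p : K) : L) = aeval (b F) p := by
    intro p
    have := aeval_algebraMap_apply L a p
    exact this.symm
  obtain ⟨w, hw⟩ := exists_par (F := F) (Q := K) a (fun p q hpq => by
      apply algebraicIndependent_b F
      rw [← ha, ← ha, hpq]) (fun z => by
      have hz : (z : L) ∈ IntermediateField.adjoin F (Set.range (b F)) := hK ▸ z.2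
      rw [IntermediateField.mem_adjoin_range_iff] at hz
      obtain ⟨r, s, hrs⟩ := hz
      by_cases hs : aeval (b F) s = 0
      · rw [hs, div_zero] at hrs
        refine ⟨0, 1, by simp, ?_⟩
        have : z = 0 := Subtype.ext hrs
        rw [this]; simp
      · refine ⟨r, s, ?_, ?_⟩
        · intro h
          apply hs
          rw [← ha, h]; rfl
        · apply Subtype.ext
          change (z : L) * ((aeval a s : K) : L) = ((aeval a r : K) : L)
          rw [ha, ha, hrs, div_mul_cancel₀ _ hs])
  exact ⟨w, fun i => by rw [hw]⟩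

end even

end K936.ParFld
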